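import Groth.Agent.MultType.PointValue
import Groth.Agent.MultType.Quot
import Mathlib.FieldTheory.Galois.Basic

/-!
A group which splits over a Galois extension with all characters fixed by the Galois group is split.
-/

set_option autoImplicit false
set_option backward.isDefEq.respectTransparency false
set_option backward.isDefEq.respectTransparency.types false
set_option linter.style.haveILetI false
set_option linter.unusedSectionVars false

universe u

open TensorProduct SGA3b MonoidAlgebra

noncomputable section

namespace Groth.Agent.MultNormal

variable {R : Type u} [CommRing R] {A : Type u} [CommRing A] [HopfAlgebra R A]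
  (F : Type u) [Field F] [Algebra R F] (L : Type u) [Field L] [Algebra R L] [Algebra F L] [IsScalarTower R F L]
  [FiniteDimensional F L] [IsGalois F L] {M : Type u} [CommGroup M] (e : L ⊗[R] A ≃ₐc[L] MonoidAlgebra L M)

/-- The action of an automorphism on the coefficients. -/
def act (σ : L ≃ₐ[F] L) : L ⊗[R] A →ₐ[R] L ⊗[R] A :=
  Algebra.TensorProduct.map (σ.toAlgHom.restrictScalars R) (AlgHom.id R A)

theorem act_tmul (σ : L ≃ₐ[F] L) (l : L) (a : A) : act (R := R) F L σ (l ⊗ₜ a) = σ l ⊗ₜ a := rfl

theorem act_smul (σ : L ≃ₐ[F] L) (t : L) (z : L ⊗[R] A) : act (R := R) F L σ (t • z) = σ t • act (R := R) F L σ z := by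
  induction z using TensorProduct.induction_on with
  | zero => simp
  | add x y hx hy => simp only [smul_add, map_add, hx, hy]
  | tmul l a => simp [TensorProduct.smul_tmul', act_tmul]

/-- The inclusion of `F ⊗ A`. -/
def incF : F ⊗[R] A →ₐ[R] L ⊗[R] A :=
  Algebra.TensorProduct.map ((Algebra.ofId F L).restrictScalars R) (AlgHom.id R A)

theorem incF_smul (t : F) (z : F ⊗[R] A) : incF (R := R) F L (t • z) = algebraMap F L t • incF (R := R) F L z := by
  induction z using TensorProduct.induction_on with
  | zero => simp
  | add x y hx hy => simp only [smul_add, map_add, hx, hy]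
  | tmul l a => simp [TensorProduct.smul_tmul', incF, Algebra.smul_def]

/-- Elements fixed by the Galois group are defined over the base field. -/
theorem exists_of_fixed (z : L ⊗[R] A) (hz : ∀ σ, act (R := R) F L σ z = z) : ∃ y, incF (R := R) F L y = z := by
  classical
  let b := Module.Free.chooseBasis F (F ⊗[R] A)
  let E : L ⊗[R] A ≃ₗ[L] L ⊗[F] (F ⊗[R] A) := (TensorProduct.AlgebraTensorModule.cancelBaseChange R F L L A).symm
  let B := (Algebra.TensorProduct.basis L b).map E.symm
  have hB : ∀ i, B i = incF (R := R) F L (b i) := fun i => by
    show E.symm (Algebra.TensorProduct.basis L b i) = _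
    rw [Algebra.TensorProduct.basis_apply]
    show TensorProduct.AlgebraTensorModule.cancelBaseChange R F L L A ((1 : L) ⊗ₜ b i) = _
    generalize b i = y
    induction y using TensorProduct.induction_on with
    | zero => simp
    | add x y hx hy => simp only [TensorProduct.tmul_add, map_add, hx, hy]
    | tmul f a => simp [incF, Algebra.algebraMap_eq_smul_one]
  have hcoord : ∀ σ i w, B.repr (act (R := R) F L σ w) i = σ (B.repr w i) := fun σ i w => by
    have key : ∀ (l : L) (a : A), B.repr (l ⊗ₜ a) i = l * algebraMap F L (b.repr ((1 : F) ⊗ₜ a) i) := fun l a => by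
      rw [Module.Basis.map_repr, LinearEquiv.trans_apply]
      show (Algebra.TensorProduct.basis L b).repr (E.symm.symm (l ⊗ₜ a)) i = _
      rw [show E.symm.symm (l ⊗ₜ[R] a) = l ⊗ₜ[F] ((1 : F) ⊗ₜ[R] a) from rfl, Algebra.TensorProduct.basis_repr_tmul]
      simp
    induction w using TensorProduct.induction_on with
    | zero => simp
    | add x y hx hy => simp only [map_add, Finsupp.add_apply, hx, hy]
    | tmul l a => rw [act_tmul, key, key, map_mul, AlgEquiv.commutes]
  have hfix : ∀ i, ∃ t : F, algebraMap F L t = B.repr z i := fun i => by
    refine (IsGalois.mem_range_algebraMap_iff_fixed _).2 fun σ => ?_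
    rw [← hcoord, hz]
  choose t ht using hfix
  refine ⟨∑ i ∈ (B.repr z).support, t i • b i, ?_⟩
  conv_rhs => rw [← B.linearCombination_repr z, Finsupp.linearCombination_apply, Finsupp.sum]
  rw [map_sum]
  exact Finset.sum_congr rfl fun i _ => by rw [incF_smul, ht, hB]

theorem incF_injective : Function.Injective (incF (R := R) (A := A) F L) := by
  classical
  let E : L ⊗[F] (F ⊗[R] A) ≃ₗ[L] L ⊗[R] A := TensorProduct.AlgebraTensorModule.cancelBaseChange R F L L A
  have h : ∀ y, incF (R := R) F L y = E ((1 : L) ⊗ₜ y) := fun y => by
    induction y using TensorProduct.induction_on with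
    | zero => simp
    | add x y hx hy => simp only [TensorProduct.tmul_add, map_add, hx, hy]
    | tmul f a => simp [incF, E, Algebra.algebraMap_eq_smul_one]
  intro x y hxy
  rw [h, h] at hxy
  exact Algebra.TensorProduct.includeRight_injective (R := F) (A := L) (algebraMap F L).injective
    (E.injective hxy)

/-- If all characters are fixed, the group is split over the base field. -/
theorem isDiag_of_fixed (hfix : ∀ m σ, act (R := R) F L σ (e.symm (single m 1)) = e.symm (single m 1)) :
    IsDiag F (F ⊗[R] A) := by
  classical
  choose h hh using fun m => exists_of_fixed (R := R) F L (e.symm (single m 1)) (hfix m)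
  have h1 : h 1 = 1 := incF_injective (R := R) F L (by rw [hh, map_one, ← one_def, map_one])
  let θ : M →* F ⊗[R] A :=
    { toFun := h
      map_one' := h1
      map_mul' := fun m n => incF_injective (R := R) F L (by
        rw [hh, map_mul, hh, hh, ← map_mul, single_mul_single, mul_one]) }
  have hli : LinearIndependent F θ := by
    refine linearIndependent_iff'.2 fun s g hg i hi => ?_
    have h2 := congrArg (fun y => e (incF (R := R) F L y)) hg
    simp only [map_sum, incF_smul, map_zero, map_smul] at h2
    have h3 : ∑ j ∈ s, algebraMap F L (g j) • (single j 1 : MonoidAlgebra L M) = 0 := by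
      rw [← h2]
      refine Finset.sum_congr rfl fun j _ => ?_
      rw [show θ j = h j from rfl, hh, show e (e.symm (single j 1)) = single j 1 from e.apply_symm_apply _]
    have h4 := linearIndependent_iff'.1 (MonoidAlgebra.basis M L).linearIndependent s (fun j => algebraMap F L (g j))
      (by simpa [MonoidAlgebra.basis_apply] using h3) i hi
    exact (algebraMap F L).injective (by rw [h4, map_zero])
  refine MultType.isDiag_of_hom θ (fun m => ?_) (top_le_iff.1 fun y _ => ?_) hli.linearIndepOn_id
  · refine MultType.isGroupLikeElem_of_map ((Algebra.ofId F L).restrictScalars R) (algebraMap F L).injective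
      (incF_injective (R := R) (A := A ⊗[R] A) F L) ?_
    show IsGroupLikeElem L (incF (R := R) F L (h m))
    rw [hh]
    exact (MonoidAlgebra.isGroupLikeElem_single_one (R := L) (A := L) m).map e.symm
  · let z := incF (R := R) F L y
    have hσ : ∀ (σ : L ≃ₐ[F] L) m, σ ((e z).coeff m) = (e z).coeff m := fun σ m => by
      have hz : act (R := R) F L σ z = z := by
        show act (R := R) F L σ (incF (R := R) F L y) = incF (R := R) F L y
        induction y using TensorProduct.induction_on with
        | zero => simp
        | add a b ha hb => simp only [map_add, ha trivial, hb trivial]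
        | tmul f a => simp [incF, act_tmul]
      have hact : ∀ v : MonoidAlgebra L M,
          e (act (R := R) F L σ (e.symm v)) = mapAlgHom M (σ.toAlgHom.restrictScalars R) v := fun v => by
        induction v using MonoidAlgebra.induction_linear with
        | zero => simp
        | add a b ha hb => simp only [map_add, ha, hb]
        | single k t =>
          rw [show (single k t : MonoidAlgebra L M) = t • single k 1 by simp, map_smul, act_smul, hfix, map_smul,
            show e (e.symm (single k 1)) = single k 1 from e.apply_symm_apply _]
          simp [show mapAlgHom M (σ.toAlgHom.restrictScalars R) (single k t) = single k (σ t) from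
            mapRingHom_single (σ : L →+* L) k t]
      have h5 := hact (e z)
      rw [e.symm_apply_apply, hz] at h5
      conv_rhs => rw [h5]
      exact (coeff_mapRingHom (σ : L →+* L) (e z) m).symm
    choose c hc using fun m => (IsGalois.mem_range_algebraMap_iff_fixed ((e z).coeff m)).2 (hσ · m)
    rw [show y = ∑ m ∈ (e z).coeff.support, c m • θ m from incF_injective (R := R) F L (by
      rw [map_sum]
      simp only [incF_smul, hc, show ∀ m, incF (R := R) F L (θ m) = e.symm (single m 1) from hh]
      show z = _
      rw [← (e.symm_apply_apply z)]
      conv_lhs => rw [← MonoidAlgebra.sum_single (e z), Finsupp.sum, map_sum]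
      refine Finset.sum_congr (by rw [e.symm_apply_apply]) fun m _ => ?_
      rw [← map_smul, e.symm_apply_apply]
      simp)]
    exact Submodule.sum_mem _ fun m _ => Submodule.smul_mem _ _ (Submodule.subset_span ⟨m, rfl⟩)

end Groth.Agent.MultNormal
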