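import Groth.Agent.S1967
import Groth.Agent.S2973
import Groth.Agent.MultType.Cocomm
import Groth.Agent.MultType.PointValue
import Groth.Agent.MultType.HenselLift
import Mathlib.RingTheory.Etale.Weakly

/-!
Over an integrally closed domain, group-like elements of a group of multiplicative type and finite type which
are defined at the generic point of an étale algebra are integral.
-/

set_option autoImplicit false
set_option backward.isDefEq.respectTransparency false
set_option backward.isDefEq.respectTransparency.types false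
set_option linter.style.haveILetI false
set_option linter.unusedSectionVars false

universe u

open TensorProduct SGA3b MonoidAlgebra

noncomputable section

namespace Groth.Agent.MultNormal

variable {R : Type u} [CommRing R]

/-- Charts with étale coefficient rings. -/
theorem exists_etale_charts {A : Type u} [CommRing A] [HopfAlgebra R A] (hA : IsMultType R A)
    (hft : Algebra.FiniteType R A) :
    ∃ s : Set R, Ideal.span s = ⊤ ∧ ∀ f ∈ s, ∃ c : MultType.Chart R A, c.f = f ∧ Algebra.Etale R c.R' := by
  obtain ⟨s, hs, h⟩ := S2973.result R A hft hA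
  refine ⟨s, hs, fun f hf => ?_⟩
  obtain ⟨R', _, _, het, hff, M, _, ⟨e⟩⟩ := h f hf
  letI : Algebra R R' :=
    ((algebraMap (Localization.Away f) R').comp (algebraMap R (Localization.Away f))).toAlgebra
  haveI : IsScalarTower R (Localization.Away f) R' := IsScalarTower.of_algebraMap_eq' rfl
  haveI : Algebra.Etale R (Localization.Away f) := Algebra.Etale.of_isLocalizationAway f
  exact ⟨{ f := f, R' := R', M := M,
           e := (MultType.cbc (R := R) (A := A) (Localization.Away f) R').symm.trans e }, rfl,
    Algebra.Etale.comp R (Localization.Away f) R'⟩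

section Generic

variable (K : Type u) [Field K] [Algebra R K] [IsDomain R] [IsFractionRing R K]

/-- The inclusion into the generic fibre. -/
def inc (W : Type u) [CommRing W] [Algebra R W] : W →ₐ[R] W ⊗[R] K := Algebra.TensorProduct.includeLeft

theorem inc_injective (W : Type u) [CommRing W] [Algebra R W] [Module.Flat R W] : Function.Injective (inc (R := R) K W) :=
  Algebra.TensorProduct.includeLeft_injective (S := R) (IsFractionRing.injective R K)

theorem map_inc_injective (W : Type u) [CommRing W] [Algebra R W] [Module.Flat R W] (N : Type u) [CommRing N]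
    [Algebra R N] [Module.Flat R N] :
    Function.Injective (Algebra.TensorProduct.map (inc (R := R) K W) (AlgHom.id R N)) :=
  Module.Flat.rTensor_preserves_injective_linearMap (M := N) (inc (R := R) K W).toLinearMap (inc_injective K W)

theorem exists_denominator (W : Type u) [CommRing W] [Algebra R W] (N : Type u) [CommRing N] [Algebra R N]
    (z : (W ⊗[R] K) ⊗[R] N) :
    ∃ r : R, r ≠ 0 ∧ ∃ a : W ⊗[R] N, r • z = Algebra.TensorProduct.map (inc (R := R) K W) (AlgHom.id R N) a := by
  induction z using TensorProduct.induction_on with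
  | zero => exact ⟨1, one_ne_zero, 0, by simp⟩
  | add x y hx hy =>
    obtain ⟨r, hr, a, ha⟩ := hx
    obtain ⟨s, hs, b, hb⟩ := hy
    exact ⟨r * s, mul_ne_zero hr hs, s • a + r • b, by
      rw [map_add, map_smul, map_smul, ← ha, ← hb, smul_add, smul_smul, smul_smul, mul_comm s r]⟩
  | tmul v n =>
    induction v using TensorProduct.induction_on with
    | zero => exact ⟨1, one_ne_zero, 0, by simp⟩
    | add x y hx hy =>
      obtain ⟨r, hr, a, ha⟩ := hx
      obtain ⟨s, hs, b, hb⟩ := hy
      exact ⟨r * s, mul_ne_zero hr hs, s • a + r • b, by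
        rw [map_add, map_smul, map_smul, ← ha, ← hb, TensorProduct.add_tmul, smul_add, smul_smul, smul_smul,
          mul_comm s r]⟩
    | tmul w q =>
      obtain ⟨⟨a, d⟩, hd⟩ := IsLocalization.surj (nonZeroDivisors R) q
      refine ⟨d, nonZeroDivisors.ne_zero d.2, (a • w) ⊗ₜ n, ?_⟩
      have h1 : (d : R) • q = algebraMap R K a := by rw [Algebra.smul_def, mul_comm]; exact hd
      rw [Algebra.TensorProduct.map_tmul, TensorProduct.smul_tmul', ← TensorProduct.tmul_smul, h1,
        Algebra.algebraMap_eq_smul_one, TensorProduct.tmul_smul, TensorProduct.smul_tmul']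
      rfl

variable [IsIntegrallyClosed R]

theorem idempotent_mem_range (W : Type u) [CommRing W] [Algebra R W] [Algebra.Etale R W] {x : W ⊗[R] K}
    (hx : IsIdempotentElem x) : ∃ w, inc (R := R) K W w = x := by
  have hint : IsIntegral W x :=
    ⟨Polynomial.X * (Polynomial.X - Polynomial.C 1),
      Polynomial.monic_X.mul (Polynomial.monic_X_sub_C 1), by simp [mul_sub, hx.eq]⟩
  haveI := S1967.result R K W
  obtain ⟨w, hw⟩ := IsIntegrallyClosedIn.isIntegral_iff.1 hint
  exact ⟨w, hw⟩

theorem exists_lift_coeff (W : Type u) [CommRing W] [Algebra R W] [Algebra.Etale R W] {N : Type u} [CommGroup N]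
    {w : MonoidAlgebra (W ⊗[R] K) N} (hw : IsGroupLikeElem (W ⊗[R] K) w) :
    ∃ w₀ : MonoidAlgebra W N, mapAlgHom N (inc (R := R) K W) w₀ = w := by
  classical
  choose v hv using fun m => idempotent_mem_range K W (x := w.coeff m)
    ((MultType.coeff_mul_coeff hw m m).trans (if_pos rfl))
  refine ⟨∑ m ∈ w.coeff.support, single m (v m), ?_⟩
  rw [map_sum]
  conv_rhs => rw [← MonoidAlgebra.sum_single w, Finsupp.sum]
  refine Finset.sum_congr rfl fun m _ => ?_
  rw [show mapAlgHom N (inc (R := R) K W) (single m (v m)) = single m (inc (R := R) K W (v m)) from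
    mapRingHom_single (inc (R := R) K W : W →+* W ⊗[R] K) m (v m), hv]

variable {A : Type u} [CommRing A] [HopfAlgebra R A]

/-- Group-like elements at the generic point of an étale algebra are integral. -/
theorem groupLike_mem_range (hA : IsMultType R A) (hft : Algebra.FiniteType R A) (S : Type u) [CommRing S]
    [Algebra R S] [Algebra.Etale R S] {z : (S ⊗[R] K) ⊗[R] A} (hz : IsGroupLikeElem (S ⊗[R] K) z) :
    ∃ a : S ⊗[R] A, Algebra.TensorProduct.map (inc (R := R) K S) (AlgHom.id R A) a = z := by
  haveI : Module.Flat R A := MultType.flat_of_isMultType hA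
  obtain ⟨r, hr, a, ha⟩ := exists_denominator K S A z
  obtain ⟨s, hs, hc⟩ := exists_etale_charts hA hft
  let N := (S ⊗[R] A) ⧸ LinearMap.range (r • (LinearMap.id : S ⊗[R] A →ₗ[R] S ⊗[R] A))
  suffices h : (Submodule.Quotient.mk a : N) = 0 by
    obtain ⟨b, hb⟩ := (Submodule.Quotient.mk_eq_zero _).1 h
    refine ⟨b, ?_⟩
    have h1 : r • z = r • Algebra.TensorProduct.map (inc (R := R) K S) (AlgHom.id R A) b := by
      rw [ha, ← map_smul]
      exact congrArg _ hb.symm
    have hu : IsUnit (algebraMap R ((S ⊗[R] K) ⊗[R] A) r) := by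
      have : IsUnit (algebraMap R K r) := isUnit_iff_ne_zero.2 fun h => hr
        (IsFractionRing.injective R K (by rw [h, map_zero]))
      exact ((this.map ((Algebra.TensorProduct.includeRight : K →ₐ[R] S ⊗[R] K))).map
        (Algebra.TensorProduct.includeLeft : S ⊗[R] K →ₐ[R] (S ⊗[R] K) ⊗[R] A)) |> fun h => by
        rwa [AlgHom.commutes, AlgHom.commutes] at h
    refine (hu.mul_left_cancel ?_).symm
    rw [← Algebra.smul_def, ← Algebra.smul_def]
    exact h1
  refine MultType.eq_zero_of_charts hs fun f hf => ?_
  obtain ⟨c, rfl, hce⟩ := hc f hf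
  refine c.exists_pow_smul_eq_zero ?_
  haveI := hce
  let W := S ⊗[R] c.R'
  haveI : Algebra.Etale R W := Algebra.Etale.comp R S W
  let j : c.R' →ₐ[R] W := Algebra.TensorProduct.includeRight
  let i : S →ₐ[R] W := Algebra.TensorProduct.includeLeft
  let g : S ⊗[R] K →ₐ[R] W ⊗[R] K := Algebra.TensorProduct.map i (AlgHom.id R K)
  let z' := Algebra.TensorProduct.map g (AlgHom.id R A) z
  obtain ⟨w₀, hw₀⟩ := exists_lift_coeff K W (N := c.M)
    (((MultType.isGroupLikeElem_map g hz).map (MultType.splitE c.e ((inc (R := R) K W).comp j))))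
  obtain ⟨v, rfl⟩ : ∃ v, MultType.splitE c.e j v = w₀ := ⟨_, (MultType.splitE c.e j).apply_symm_apply w₀⟩
  rw [← MultType.splitE_comp] at hw₀
  have hv := EquivLike.injective (MultType.splitE c.e ((inc (R := R) K W).comp j)) hw₀
  -- `v` is the image of `a` divided by `r`
  have hga : ∀ b : S ⊗[R] A, Algebra.TensorProduct.map g (AlgHom.id R A)
      (Algebra.TensorProduct.map (inc (R := R) K S) (AlgHom.id R A) b) =
      Algebra.TensorProduct.map (inc (R := R) K W) (AlgHom.id R A) (Algebra.TensorProduct.map i (AlgHom.id R A) b) := by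
    intro b
    induction b using TensorProduct.induction_on with
    | zero => simp
    | add x y hx hy => simp only [map_add, hx, hy]
    | tmul x y => rfl
  have hia : Algebra.TensorProduct.map i (AlgHom.id R A) a = r • v := by
    refine map_inc_injective K W A ?_
    rw [map_smul, hv, ← hga, ← ha, map_smul]
  -- read in `c.R' ⊗ N`
  let q : S ⊗[R] A →ₗ[R] N := Submodule.mkQ _
  let L : W ⊗[R] A →ₗ[R] c.R' ⊗[R] N :=
    q.lTensor c.R' ∘ₗ (TensorProduct.leftComm R S c.R' A).toLinearMap ∘ₗ (TensorProduct.assoc R S c.R' A).toLinearMap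
  have hLi : ∀ b : S ⊗[R] A, L (Algebra.TensorProduct.map i (AlgHom.id R A) b) = (1 : c.R') ⊗ₜ q b := fun b => by
    induction b using TensorProduct.induction_on with
    | zero => simp
    | add x y hx hy => simp only [map_add, hx, hy, TensorProduct.tmul_add]
    | tmul x y => rfl
  have hr0 : ∀ w : c.R' ⊗[R] N, r • w = 0 := fun w => by
    induction w using TensorProduct.induction_on with
    | zero => simp
    | add x y hx hy => rw [smul_add, hx, hy, add_zero]
    | tmul x y =>
      obtain ⟨y, rfl⟩ := Submodule.mkQ_surjective _ y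
      rw [← TensorProduct.tmul_smul, ← map_smul]
      rw [show Submodule.mkQ _ (r • y) = (0 : N) from (Submodule.Quotient.mk_eq_zero _).2 ⟨y, rfl⟩,
        TensorProduct.tmul_zero]
  rw [show (Submodule.Quotient.mk a : N) = q a from rfl, ← hLi, hia, map_smul]
  exact hr0 _

end Generic

end Groth.Agent.MultNormal
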