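import Groth.Agent.MultNormal.Rigid
import Groth.Agent.MultNormal.Integral
import Groth.Agent.MultNormal.Galois
import Groth.Agent.MultNormal.HopfIdeal
import Groth.Agent.MultFinLib.Main
import Groth.Agent.S5242
import Groth.Agent.MultType.Field
import Groth.Agent.MultType.Henselian
import Groth.Agent.MultType.GlueEquiv
import Groth.Agent.MultType.Connected
import Mathlib.FieldTheory.Galois.GaloisClosure

/-!
Groups of multiplicative type and finite type over integrally closed domains are isotrivial.
-/

set_option autoImplicit false
set_option backward.isDefEq.respectTransparency false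
set_option backward.isDefEq.respectTransparency.types false
set_option linter.style.haveILetI false
set_option linter.unusedSectionVars false

universe u

open TensorProduct SGA3b MonoidAlgebra

noncomputable section

namespace Groth.Agent.MultNormal

variable {R : Type u} [CommRing R]

/-- The generic fibre of a connected étale algebra over an integrally closed domain is a field. -/
theorem isField_generic (K : Type u) [Field K] [Algebra R K] [IsDomain R] [IsFractionRing R K] [IsIntegrallyClosed R]
    (S : Type u) [CommRing S] [Algebra R S] [Algebra.Etale R S] [Nontrivial S] [PreconnectedSpace (PrimeSpectrum S)] :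
    IsField (S ⊗[R] K) := by
  classical
  let T := S ⊗[R] K
  let e₀ := (Algebra.TensorProduct.comm R K S).toRingEquiv
  haveI : Module.Finite K (K ⊗[R] S) := Algebra.FormallyUnramified.finite_of_free K _
  haveI : IsArtinianRing (K ⊗[R] S) := IsArtinianRing.of_finite K _
  haveI : IsReduced (K ⊗[R] S) := Algebra.FormallyUnramified.isReduced_of_field K _
  haveI : IsArtinianRing T := e₀.surjective.isArtinianRing (f := e₀.toRingHom)
  haveI : IsReduced T := isReduced_of_injective e₀.symm e₀.symm.injective
  haveI : Nontrivial T := (inc_injective (R := R) K S).nontrivial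
  have hid : ∀ x : T, IsIdempotentElem x → x = 0 ∨ x = 1 := fun x hx => by
    obtain ⟨w, rfl⟩ := idempotent_mem_range K S hx
    have hw : IsIdempotentElem w := inc_injective (R := R) K S (by rw [map_mul]; exact hx)
    rcases MultFinLib.idempotent_eq_zero_or_one hw with rfl | rfl
    · exact Or.inl (map_zero _)
    · exact Or.inr (map_one _)
  refine ⟨⟨0, 1, zero_ne_one⟩, mul_comm, fun {x} hx => ?_⟩
  let E := IsArtinianRing.equivPi T
  letI : ∀ I : MaximalSpectrum T, Field (T ⧸ I.asIdeal) := fun I => Ideal.Quotient.field _
  let y : T := E.symm fun I => (E x I)⁻¹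
  have hxy : x * y * x = x := E.injective (by
    rw [map_mul, map_mul]
    funext I
    by_cases h0 : E x I = 0
    · simp [y, h0]
    · simp [y, h0])
  rcases hid (x * y) (by rw [IsIdempotentElem, ← mul_assoc, hxy]) with h | h
  · exact absurd (by rw [← hxy, h, zero_mul]) hx
  · exact ⟨y, h⟩

/-- A splitting at the generic point of an étale algebra over an integrally closed domain is integral. -/
theorem isDiag_of_generic (K : Type u) [Field K] [Algebra R K] [IsDomain R] [IsFractionRing R K]
    [IsIntegrallyClosed R] {A : Type u} [CommRing A] [HopfAlgebra R A] (hA : IsMultType R A)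
    (hft : Algebra.FiniteType R A) (S : Type u) [CommRing S] [Algebra R S] [Algebra.Etale R S] {M : Type u}
    [CommGroup M] (eF : (S ⊗[R] K) ⊗[R] A ≃ₐc[S ⊗[R] K] MonoidAlgebra (S ⊗[R] K) M) :
    IsDiag S (S ⊗[R] A) := by
  classical
  haveI : Module.Flat R A := MultType.flat_of_isMultType hA
  let F := S ⊗[R] K
  haveI : Module.Flat R S := inferInstance
  let ι : S ⊗[R] A →ₐ[R] F ⊗[R] A := Algebra.TensorProduct.map (inc (R := R) K S) (AlgHom.id R A)
  have hι : Function.Injective ι := map_inc_injective K S A
  have hιs : ∀ (t : S) z, ι (t • z) = inc (R := R) K S t • ι z := fun t z => by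
    induction z using TensorProduct.induction_on with
    | zero => simp
    | add a b ha hb => simp only [smul_add, map_add, ha, hb]
    | tmul x a =>
      simp [ι, TensorProduct.smul_tmul']
      rfl
  choose a ha using fun m => groupLike_mem_range K hA hft S
    ((MonoidAlgebra.isGroupLikeElem_single_one (R := F) (A := F) m).map eF.symm)
  let θ : M →* S ⊗[R] A :=
    { toFun := a
      map_one' := hι (by rw [map_one]; exact (ha 1).trans (by rw [← one_def, map_one]))
      map_mul' := fun x y => hι (by
        rw [map_mul]
        refine (ha (x * y)).trans ?_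
        rw [show ι (a x) = eF.symm (single x 1) from ha x, show ι (a y) = eF.symm (single y 1) from ha y, ← map_mul,
          single_mul_single, mul_one]) }
  have hθ : ∀ m, ι (θ m) = eF.symm (single m 1) := ha
  -- the invariant form
  obtain ⟨l, hl1, hll, -⟩ := MultType.exists_integral hA
  have hcoef : ∀ x : A, (eF ((1 : F) ⊗ₜ x)).coeff 1 = algebraMap R F (l x) := fun x => by
    have h := MultType.IsLeftInt.eq (hll.map (Algebra.ofId R F)) (MultType.isRightInt_coef_one eF)
      (by simp [hl1]) (MultType.coef_one_one eF)
    exact (LinearMap.congr_fun h x).symm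
  let lS : S ⊗[R] A → S := fun z => TensorProduct.rid R S (l.lTensor S z)
  have hlS : ∀ z, (eF (ι z)).coeff 1 = inc (R := R) K S (lS z) := fun z => by
    induction z using TensorProduct.induction_on with
    | zero => simp [lS]
    | add x y hx hy =>
      simp only [lS, map_add] at hx hy ⊢
      rw [MonoidAlgebra.coeff_add, Finsupp.add_apply, hx, hy]
    | tmul t x =>
      have : ι (t ⊗ₜ x) = inc (R := R) K S t • ((1 : F) ⊗ₜ[R] x) := by
        simp [ι, TensorProduct.smul_tmul']
        rfl
      rw [this, map_smul, MonoidAlgebra.coeff_smul, Finsupp.smul_apply, hcoef, smul_eq_mul,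
        ← Algebra.commutes, ← Algebra.smul_def]
      simp [lS]
  refine MultType.isDiag_of_hom θ (fun m => ?_) (top_le_iff.1 fun z _ => ?_) ?_
  · refine MultType.isGroupLikeElem_of_map (inc (R := R) K S) (inc_injective K S)
      (map_inc_injective K S (A ⊗[R] A)) ?_
    show IsGroupLikeElem F (ι (θ m))
    rw [hθ]
    exact (MonoidAlgebra.isGroupLikeElem_single_one (R := F) (A := F) m).map eF.symm
  · have hc : ∀ m, (eF (ι z)).coeff m = inc (R := R) K S (lS (z * θ m⁻¹)) := fun m => by
      rw [← hlS, map_mul, map_mul, hθ, eF.apply_symm_apply, MonoidAlgebra.coeff_mul_single_apply, inv_inv, one_mul, mul_one]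
    rw [show z = ∑ m ∈ (eF (ι z)).coeff.support, lS (z * θ m⁻¹) • θ m from hι (by
      rw [map_sum]
      simp only [hιs, hθ, ← hc]
      refine EquivLike.injective eF ?_
      conv_lhs => rw [← MonoidAlgebra.sum_single (eF (ι z)), Finsupp.sum]
      rw [map_sum]
      exact Finset.sum_congr rfl fun m _ => by
        rw [map_smul, show eF (eF.symm (single m 1)) = single m 1 from eF.apply_symm_apply _]
        simp)]
    exact Submodule.sum_mem _ fun m _ => Submodule.smul_mem _ _ (Submodule.subset_span ⟨m, rfl⟩)
  · refine LinearIndependent.linearIndepOn_id (linearIndependent_iff'.2 fun t g' hg' i hi => ?_)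
    have h2 := congrArg (fun y => eF (ι y)) hg'
    simp only [map_sum, hιs, map_zero, map_smul, hθ] at h2
    have h4 := linearIndependent_iff'.1 (MonoidAlgebra.basis M F).linearIndependent t
      (fun j => inc (R := R) K S (g' j)) (by
        rw [← h2]
        exact Finset.sum_congr rfl fun j _ => by
          rw [MonoidAlgebra.basis_apply, show eF (eF.symm (single j 1)) = single j 1 from eF.apply_symm_apply _]) i hi
    exact inc_injective K S (by rw [h4, map_zero])

theorem exists_galois (F : Type u) [Field F] (k : Type u) [Field k] [Algebra F k] [FiniteDimensional F k]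
    [Algebra.IsSeparable F k] :
    ∃ (L : Type u) (_ : Field L) (_ : Algebra F L) (_ : k →ₐ[F] L), FiniteDimensional F L ∧ IsGalois F L := by
  let j : k →ₐ[F] SeparableClosure F := IsSepClosed.lift
  exact ⟨IntermediateField.normalClosure F k (SeparableClosure F), inferInstance, inferInstance,
    (IntermediateField.inclusion j.fieldRange_le_normalClosure).comp j.rangeRestrict,
    normalClosure.is_finiteDimensional F k (SeparableClosure F), IsGalois.normalClosure F k (SeparableClosure F)⟩

theorem isIsotrivial_of_isIntegrallyClosed [IsDomain R] [IsIntegrallyClosed R] (A : Type u) [CommRing A]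
    [HopfAlgebra R A] (hft : Algebra.FiniteType R A) (hA : IsMultType R A) : IsIsotrivial R A := by
  classical
  haveI := hft
  haveI hflat : Module.Flat R A := MultType.flat_of_isMultType hA
  haveI := MultType.isCocomm_of_isMultType hA
  let K := FractionRing R
  -- a geometric generic point of a chart
  obtain ⟨s, hs, hc⟩ := MultType.exists_charts hA
  obtain ⟨f, hf, hf0⟩ : ∃ f ∈ s, f ≠ 0 := by
    by_contra! hn
    have : Ideal.span s ≤ ⊥ := Ideal.span_le.2 fun f hf => by simpa using hn f hf
    rw [hs] at this
    exact top_ne_bot (le_bot_iff.1 this)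
  obtain ⟨c, rfl⟩ := hc f hf
  haveI := c.ff
  obtain ⟨p', hp'⟩ : (⊥ : PrimeSpectrum R) ∈ Set.range (PrimeSpectrum.comap (algebraMap R (Localization.Away c.f))) := by
    rw [PrimeSpectrum.localization_away_comap_range (Localization.Away c.f) c.f]
    exact fun h => hf0 h
  obtain ⟨P, hP⟩ := PrimeSpectrum.comap_surjective_of_faithfullyFlat (B := c.R') p'
  haveI : Nontrivial c.R' := P.nontrivial
  let Ω := AlgebraicClosure P.asIdeal.ResidueField
  have hker : ∀ r : R, algebraMap R Ω r = 0 → r = 0 := fun r hr => by
    have h1 : algebraMap R c.R' r ∈ P.asIdeal := by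
      rw [← Ideal.algebraMap_residueField_eq_zero]
      refine (algebraMap P.asIdeal.ResidueField Ω).injective ?_
      rw [map_zero, ← IsScalarTower.algebraMap_apply, ← IsScalarTower.algebraMap_apply]
      exact hr
    have h2 : r ∈ (PrimeSpectrum.comap (algebraMap R (Localization.Away c.f)) p').asIdeal := by
      rw [← hP]
      show algebraMap (Localization.Away c.f) c.R' (algebraMap R _ r) ∈ P.asIdeal
      rwa [← IsScalarTower.algebraMap_apply]
    rw [hp'] at h2
    exact h2
  letI : Algebra K Ω :=
    (IsFractionRing.lift (g := algebraMap R Ω) ((injective_iff_map_eq_zero _).2 hker)).toAlgebra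
  haveI : IsScalarTower R K Ω := IsScalarTower.of_algebraMap_eq fun r =>
    (IsFractionRing.lift_algebraMap ((injective_iff_map_eq_zero (algebraMap R Ω)).2 hker) r).symm
  obtain ⟨eΩ⟩ := MultType.Glue.nonempty_diag_map (IsScalarTower.toAlgHom R c.R' Ω) c.e
  haveI : Group.FG c.M := MultType.fg_of_finiteType hft c.e
  obtain ⟨n, hn, hrigid⟩ := exists_rigid c.M
  -- split the torsion
  let J := torsionIdeal R A n
  haveI : J.IsHopfIdeal R := isHopfIdeal_torsionIdeal n
  obtain ⟨hJm, hJf⟩ := S5242.result R A hft hA n hn J rfl
  haveI := MultType.isCocomm_of_isMultType hJm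
  haveI := hJf
  haveI := MultFinLib.projective_of_isMultType hJm
  haveI := MultFinLib.etale_dual_of_isMultType hJm
  haveI : ConnectedSpace (PrimeSpectrum R) := inferInstance
  obtain ⟨S, _, _, hSe, hSf, hSff, hSn, hSc, d, ⟨eD⟩⟩ := MultFinLib.exists_connected_split (R := R) (CartDual.D R (A ⧸ J))
  obtain ⟨P₀, _, ⟨eS⟩⟩ := MultFinLib.isDiag_of_split R (A ⧸ J) S eD
  -- the generic fibre of `S`
  let F := S ⊗[R] K
  letI : Field F := (isField_generic (R := R) K S).toField
  letI : Algebra K F := (Algebra.TensorProduct.includeRight : K →ₐ[R] F).toRingHom.toAlgebra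
  haveI : IsScalarTower R K F := IsScalarTower.of_algebraMap_eq fun r =>
    ((Algebra.TensorProduct.includeRight : K →ₐ[R] F).commutes r).symm
  let sw : K ⊗[R] S →ₐ[K] F :=
    { (Algebra.TensorProduct.comm R K S).toRingEquiv.toRingHom with
      commutes' := fun k => by
        show Algebra.TensorProduct.comm R K S (k ⊗ₜ (1 : S)) = (1 : S) ⊗ₜ k
        exact Algebra.TensorProduct.comm_tmul R k (1 : S) }
  haveI : Module.Finite K F :=
    Module.Finite.of_surjective sw.toLinearMap (Algebra.TensorProduct.comm R K S).surjective
  haveI : Algebra.IsAlgebraic K F := Algebra.IsAlgebraic.of_finite K F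
  let jF : F →ₐ[K] Ω := IsAlgClosed.lift
  letI : Algebra F Ω := jF.toRingHom.toAlgebra
  haveI : IsScalarTower R F Ω := IsScalarTower.of_algebraMap_eq fun r => ((jF.restrictScalars R).commutes r).symm
  haveI : Module.FaithfullyFlat F Ω := inferInstance
  have hAF : IsMultType F (F ⊗[R] A) :=
    MultType.isMultType_of_ff Ω (MultType.isDiag_congr (MultType.cbc (R := R) (A := A) F Ω).symm
      ⟨c.M, inferInstance, ⟨eΩ⟩⟩)
  obtain ⟨k', _, _, _, _, M', _, hM', ⟨e'⟩⟩ := MultType.exists_separable_split (k := F) inferInstance hAF
  obtain ⟨L, _, _, jk, _, _⟩ := exists_galois F k'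
  letI : Algebra R L := ((algebraMap F L).comp (algebraMap R F)).toAlgebra
  haveI : IsScalarTower R F L := IsScalarTower.of_algebraMap_eq' rfl
  obtain ⟨eFL⟩ := MultType.Glue.nonempty_diag_map jk e'
  let eL : L ⊗[R] A ≃ₐc[L] MonoidAlgebra L M' := (MultType.cbc (R := R) (A := A) F L).symm.trans eFL
  -- compare the two character groups
  let jL : L →ₐ[F] Ω := IsAlgClosed.lift
  obtain ⟨eLΩ⟩ := MultType.Glue.nonempty_diag_map (jL.restrictScalars R) eL
  obtain ⟨μ⟩ := MultType.nonempty_mulEquiv (eLΩ.symm.trans eΩ)
  -- the Galois action on characters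
  let sg : M' → L ⊗[R] A := fun m => eL.symm (single m 1)
  have hsg : ∀ m, IsGroupLikeElem L (sg m) := fun m =>
    (MonoidAlgebra.isGroupLikeElem_single_one (R := L) (A := L) m).map eL.symm
  have hinj : Function.Injective sg := fun a b h =>
    MonoidAlgebra.single_left_injective (one_ne_zero : (1 : L) ≠ 0) (eL.symm.injective h)
  have hperm : ∀ (σ : L ≃ₐ[F] L) m, ∃ m', act (R := R) F L σ (sg m) = sg m' := fun σ m => by
    have hg : IsGroupLikeElem L (act (R := R) F L σ (sg m)) :=
      MultType.isGroupLikeElem_map (σ.toAlgHom.restrictScalars R) (hsg m)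
    obtain ⟨m', hm'⟩ := MonoidAlgebra.isGroupLikeElem_iff_mem_range_of.1 (hg.map eL)
    refine ⟨m', eL.injective ?_⟩
    show _ = eL (eL.symm (single m' 1))
    rw [eL.apply_symm_apply]
    exact hm'.symm
  choose g hg using hperm
  have hgmul : ∀ σ a b, g σ (a * b) = g σ a * g σ b := fun σ a b => hinj (by
    rw [← hg]
    have hs : ∀ x y, sg (x * y) = sg x * sg y := fun x y => by
      simp only [sg, ← map_mul, single_mul_single, mul_one]
    rw [hs, map_mul, hg, hg, ← hs])
  -- trivial modulo `n`
  have hmod : ∀ σ m, ∃ z, g σ m = m * z ^ n := fun σ m => by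
    let π : L ⊗[R] A →ₐc[L] L ⊗[R] (A ⧸ J) :=
      Bialgebra.TensorProduct.map (BialgHom.id L L) (Bialgebra.Quotient.mkBialgHom (R := R) J)
    let iS : S →ₐ[R] L := ((Algebra.ofId F L).restrictScalars R).comp (inc (R := R) K S)
    obtain ⟨p, hp⟩ := MultType.exists_eq_gam eS iS ((hsg m).map π)
    have hfix : act (R := R) F L σ (π (sg m)) = π (sg m) := by
      rw [hp, MultType.gam]
      generalize eS.symm (single p 1) = y
      induction y using TensorProduct.induction_on with
      | zero => simp
      | add a b ha hb => simp only [map_add, ha, hb]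
      | tmul t a =>
        show σ (iS t) ⊗ₜ[R] a = iS t ⊗ₜ[R] a
        rw [show σ (iS t) = iS t from σ.commutes _]
    have hnat : ∀ w : L ⊗[R] A, π (act (R := R) F L σ w) = act (R := R) F L σ (π w) := fun w => by
      induction w using TensorProduct.induction_on with
      | zero => simp
      | add a b ha hb => simp only [map_add, ha, hb]
      | tmul t a => rfl
    have hq : ∀ w : L ⊗[R] A, MultType.quotEquiv eL n (π w) = MultType.qn n (eL w) := fun w => by
      induction w using TensorProduct.induction_on with
      | zero => simp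
      | add a b ha hb => simp only [map_add, ha, hb]
      | tmul t a =>
        have ht : t ⊗ₜ[R] a = t • ((1 : L) ⊗ₜ[R] a) := by rw [TensorProduct.smul_tmul', smul_eq_mul, mul_one]
        rw [ht, map_smul, map_smul, map_smul, map_smul]
        congr 1
        exact MultType.quotEquiv_mk eL n a
    have h1 : MultType.qn (R' := L) n (single (g σ m) 1) = MultType.qn (R' := L) n (single m 1) := by
      rw [← eL.apply_symm_apply (single (g σ m) 1), ← eL.apply_symm_apply (single m 1), ← hq, ← hq]
      show MultType.quotEquiv eL n (π (sg (g σ m))) = MultType.quotEquiv eL n (π (sg m))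
      rw [← hg, hnat, hfix]
    rw [MultType.qn_single, MultType.qn_single] at h1
    obtain ⟨z, hz⟩ := QuotientGroup.eq.1 (MonoidAlgebra.single_left_injective (one_ne_zero : (1 : L) ≠ 0) h1).symm
    refine ⟨z, ?_⟩
    rw [show z ^ n = m⁻¹ * g σ m from hz, mul_inv_cancel_left]
  have hfixed : ∀ m σ, act (R := R) F L σ (eL.symm (single m 1)) = eL.symm (single m 1) := fun m σ => by
    let fσ : M' →* M' := MonoidHom.mk' (g σ) (hgmul σ)
    let f₀ : c.M →* c.M := (μ.toMonoidHom.comp fσ).comp μ.symm.toMonoidHom
    have hit : ∀ j m, sg ((g σ)^[j] m) = act (R := R) F L (σ ^ j) (sg m) := fun j m => by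
      induction j with
      | zero =>
        show sg m = act (R := R) F L 1 (sg m)
        generalize sg m = w
        induction w using TensorProduct.induction_on with
        | zero => simp
        | add a b ha hb => rw [map_add, ← ha, ← hb]
        | tmul t a => rfl
      | succ j ihj =>
        rw [Function.iterate_succ_apply', ← hg, ihj, pow_succ']
        generalize sg m = w
        induction w using TensorProduct.induction_on with
        | zero => simp
        | add a b ha hb => simp only [map_add, ha, hb]
        | tmul t a => rfl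
    have hit0 : ∀ j (x : c.M), f₀^[j] x = μ ((g σ)^[j] (μ.symm x)) := fun j x => by
      induction j with
      | zero => simp
      | succ j ihj =>
        rw [Function.iterate_succ_apply', Function.iterate_succ_apply', ihj]
        simp [f₀, fσ]
    have h := hrigid f₀ (orderOf σ) (orderOf_pos σ) (fun x => by
      rw [hit0]
      refine μ.symm.injective ?_
      rw [μ.symm_apply_apply]
      refine hinj ?_
      rw [hit, pow_orderOf_eq_one]
      generalize sg (μ.symm x) = w
      induction w using TensorProduct.induction_on with
      | zero => simp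
      | add a b ha hb => rw [map_add, ha, hb]
      | tmul t a => rfl) (fun x => by
      obtain ⟨z, hz⟩ := hmod σ (μ.symm x)
      exact ⟨μ z, by simp [f₀, fσ, hz]⟩) (μ m)
    show act (R := R) F L σ (sg m) = sg m
    rw [hg]
    congr 1
    simpa [f₀, fσ] using h
  obtain ⟨M, _, ⟨eF⟩⟩ := isDiag_of_fixed (R := R) F L eL hfixed
  -- the characters are integral
  refine ⟨S, inferInstance, inferInstance, hSe, hSf, hSff, ?_⟩
  exact isDiag_of_generic (R := R) K hA hft S eF

end Groth.Agent.MultNormal
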