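import Mathlib.Algebra.Module.Torsion.Basic
import Mathlib.Algebra.Module.PID
import Mathlib.GroupTheory.Finiteness
import Mathlib.LinearAlgebra.FreeModule.PID
import Mathlib.RingTheory.Int.Basic
import Mathlib.RingTheory.Noetherian.Basic
import Mathlib.GroupTheory.FiniteAbelian.Basic
import Mathlib.Tactic

/-!
An automorphism of finite order of a finitely generated abelian group which is congruent to the identity modulo a
large enough multiple of three is the identity.
-/

set_option autoImplicit false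
set_option linter.style.haveILetI false

universe u

namespace Groth.Agent.MultNormal

variable {E : Type*} [Ring E]

theorem exists_expand (a : E) : ∀ p : ℕ, ∃ c : E, (1 + a) ^ p = 1 + p • a + a * a * c
  | 0 => ⟨0, by simp⟩
  | p + 1 => by
    obtain ⟨c, hc⟩ := exists_expand a p
    refine ⟨(p : E) + c + c * a, ?_⟩
    rw [pow_succ, hc, add_smul, one_smul]
    simp only [nsmul_eq_mul, mul_add, add_mul, mul_one, one_mul]
    have hcm : (p : E) * a * a = a * a * (p : E) := by rw [mul_assoc]; exact (Nat.cast_commute p (a * a)).eq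
    rw [← hcm]
    noncomm_ring

theorem step (htf : ∀ (n : ℕ) (x : E), n ≠ 0 → n • x = 0 → x = 0) {p : ℕ} (hp : p.Prime) {t : ℕ} {u : E}
    (h : (1 + (3 ^ (t + 1)) • u) ^ p = 1) : ∃ v, u = 3 • v := by
  set d := (3 ^ (t + 1)) • u with hd
  by_cases h3 : p = 3
  · subst h3
    have he : (1 + d) ^ 3 = 1 + (3 • d + 3 • (d * d) + d * d * d) := by noncomm_ring
    rw [he, add_eq_left] at h
    have h2 : 3 ^ (t + 2) • (u + 3 • (3 ^ t • (u * u) + 3 ^ (2 * t) • (u * u * u))) = 0 := by
      rw [← h, hd]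
      simp only [smul_add, smul_mul_assoc, mul_smul_comm]
      module
    have h4 := htf _ _ (pow_ne_zero _ (by norm_num)) h2
    exact ⟨-(3 ^ t • (u * u) + 3 ^ (2 * t) • (u * u * u)), by rw [smul_neg]; exact eq_neg_of_add_eq_zero_left h4⟩
  · obtain ⟨c, hc⟩ := exists_expand d p
    rw [hc, add_assoc, add_eq_left] at h
    have h2 : 3 ^ (t + 1) • (p • u + 3 • (3 ^ t • (u * u * c))) = 0 := by
      rw [← h, hd]
      simp only [smul_add, smul_mul_assoc, mul_smul_comm]
      module
    have h4 := eq_neg_of_add_eq_zero_left (htf _ _ (pow_ne_zero _ (by norm_num)) h2)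
    obtain ⟨a, b, hab⟩ := Int.isCoprime_iff_gcd_eq_one.2
      (show Int.gcd (p : ℤ) 3 = 1 from (Nat.coprime_primes hp Nat.prime_three).2 h3)
    refine ⟨b • u - a • (3 ^ t • (u * u * c)), ?_⟩
    calc u = (a * (p : ℤ) + b * 3) • u := by rw [hab, one_smul]
      _ = a • (p • u) + b • ((3 : ℤ) • u) := by rw [add_smul, mul_smul, mul_smul, natCast_zsmul]
      _ = 3 • (b • u - a • (3 ^ t • (u * u * c))) := by rw [h4]; module

theorem eq_one_of_pow_eq_one (htf : ∀ (n : ℕ) (x : E), n ≠ 0 → n • x = 0 → x = 0)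
    (hsep : ∀ x : E, (∀ s : ℕ, ∃ y, x = (3 ^ s) • y) → x = 0) :
    ∀ (k : ℕ), 0 < k → ∀ x : E, (∃ u, x = 1 + 3 • u) → x ^ k = 1 → x = 1 := by
  intro k
  induction k using Nat.strong_induction_on with
  | _ k ih =>
    intro hk x hx hxk
    rcases eq_or_ne k 1 with rfl | hk1
    · simpa using hxk
    let p := k.minFac
    have hp : p.Prime := Nat.minFac_prime hk1
    obtain ⟨r, hr⟩ : p ∣ k := Nat.minFac_dvd k
    -- the prime order case
    have hprime : ∀ y : E, (∃ u, y = 1 + 3 • u) → y ^ p = 1 → y = 1 := by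
      intro y ⟨u, hu⟩ hy
      have : ∀ s : ℕ, ∃ v, y - 1 = (3 ^ (s + 1)) • v := by
        intro s
        induction s with
        | zero => exact ⟨u, by rw [hu]; simp⟩
        | succ s ihs =>
          obtain ⟨v, hv⟩ := ihs
          obtain ⟨w, hw⟩ := step htf hp (t := s) (u := v) (by rw [← hv, add_sub_cancel]; exact hy)
          exact ⟨w, by rw [hv, hw, smul_smul, ← pow_succ]⟩
      refine sub_eq_zero.1 (hsep _ fun s => ?_)
      obtain ⟨v, hv⟩ := this s
      exact ⟨3 • v, by rw [hv, pow_succ, mul_smul]⟩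
    have hr0 : 0 < r := Nat.pos_of_ne_zero fun h => by rw [h, mul_zero] at hr; omega
    have hrk : r < k := by
      rw [hr]
      exact (lt_mul_iff_one_lt_left hr0).2 hp.one_lt
    have h1 : (∃ u, x ^ r = 1 + 3 • u) := by
      obtain ⟨u, hu⟩ := hx
      obtain ⟨c, hc⟩ := exists_expand (3 • u) r
      refine ⟨r • u + u * (3 • u) * c, ?_⟩
      rw [hu, hc, smul_comm r 3 u, smul_add, add_assoc, smul_mul_assoc, smul_mul_assoc]
    have h2 := hprime (x ^ r) h1 (by rw [← pow_mul, mul_comm, ← hr, hxk])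
    exact ih r hrk hr0 x hx h2

/-- Rigidity of automorphisms of finite order of finitely generated abelian groups. -/
theorem exists_rigid (M : Type u) [CommGroup M] [Group.FG M] :
    ∃ n : ℕ, 0 < n ∧ ∀ (f : M →* M) (k : ℕ), 0 < k → (∀ m, f^[k] m = m) → (∀ m, ∃ z, f m = m * z ^ n) →
      ∀ m, f m = m := by
  classical
  let X := Additive M
  haveI : AddGroup.FG X := inferInstance
  haveI : Module.Finite ℤ X := Module.Finite.iff_addGroup_fg.2 inferInstance
  let T := Submodule.torsion ℤ X
  haveI : Module.Finite ℤ T := Module.Finite.iff_fg.2 (IsNoetherian.noetherian T)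
  haveI : Finite T := Module.finite_of_fg_torsion T Submodule.torsion_isTorsion
  haveI : Module.Free ℤ (X ⧸ T) := Module.free_of_finite_type_torsion_free'
  refine ⟨3 * Nat.card T, Nat.mul_pos (by norm_num) Nat.card_pos, fun f k hk hfk hf => ?_⟩
  let F : X →ₗ[ℤ] X := (MonoidHom.toAdditive f).toIntLinearMap
  have hFT : T ≤ T.comap F := fun t ⟨a, ha⟩ => ⟨a, by rw [← F.map_smul_of_tower, ha, map_zero]⟩
  let G : Module.End ℤ (X ⧸ T) := T.mapQ T F hFT
  have hδ : ∀ x : X, ∃ z : X, F x = x + (3 * Nat.card T) • z := fun x => by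
    obtain ⟨z, hz⟩ := hf (Additive.toMul x)
    exact ⟨Additive.ofMul z, congrArg Additive.ofMul hz⟩
  obtain ⟨ι, b⟩ := Module.Free.exists_basis (R := ℤ) (M := X ⧸ T) |>.some
  choose z hz using hδ
  have hG : ∃ u : Module.End ℤ (X ⧸ T), G = 1 + 3 • u := by
    choose lift hlift using fun i => T.mkQ_surjective (b i)
    refine ⟨b.constr ℤ fun i => Nat.card T • T.mkQ (z (lift i)), b.ext fun i => ?_⟩
    rw [LinearMap.add_apply, Module.End.one_apply, LinearMap.smul_apply, Module.Basis.constr_basis, ← hlift i]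
    show T.mkQ (F (lift i)) = _
    rw [hz, map_add, map_nsmul, mul_smul]
  have hpow : ∀ j : ℕ, ∀ x : X, (G ^ j) (T.mkQ x) = T.mkQ (Additive.ofMul (f^[j] (Additive.toMul x))) := by
    intro j
    induction j with
    | zero => intro x; simp
    | succ j ihj =>
      intro x
      rw [pow_succ', Module.End.mul_apply, ihj, Function.iterate_succ_apply']
      rfl
  have hGk : G ^ k = 1 := LinearMap.ext fun y => by
    obtain ⟨x, rfl⟩ := T.mkQ_surjective y
    rw [hpow, hfk, ofMul_toMul]
    rfl
  have h1 : G = 1 := by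
    refine eq_one_of_pow_eq_one ?_ ?_ k hk G hG hGk
    · intro n g hn hg
      refine b.ext fun i => ?_
      have : n • g (b i) = 0 := LinearMap.congr_fun hg (b i)
      rw [LinearMap.zero_apply]
      rw [← natCast_zsmul] at this
      exact (smul_eq_zero.1 this).resolve_left (Int.natCast_ne_zero.2 hn)
    · intro g hg
      refine b.ext fun i => b.repr.injective (Finsupp.ext fun j => ?_)
      rw [LinearMap.zero_apply, map_zero, Finsupp.zero_apply]
      by_contra hne
      set N := (b.repr (g (b i)) j).natAbs with hN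
      obtain ⟨y, hy⟩ := hg N
      have h3 : ((3 ^ N : ℕ) : ℤ) ∣ b.repr (g (b i)) j := by
        rw [hy, LinearMap.smul_apply, map_nsmul, Finsupp.smul_apply, nsmul_eq_mul]
        exact dvd_mul_right _ _
      have h4 := Nat.le_of_dvd (Int.natAbs_pos.2 hne) (Int.natCast_dvd.1 h3)
      exact absurd h4 (not_le.2 (Nat.lt_pow_self (by norm_num)))
  intro m
  have h2 : F (Additive.ofMul m) - Additive.ofMul m ∈ T := by
    rw [← Submodule.Quotient.eq]
    exact LinearMap.congr_fun h1 (T.mkQ (Additive.ofMul m))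
  rw [hz, add_sub_cancel_left] at h2
  obtain ⟨a, ha⟩ := h2
  have h5 : z (Additive.ofMul m) ∈ T := by
    refine ⟨⟨(a : ℤ) * (3 * Nat.card T : ℕ), mem_nonZeroDivisors_of_ne_zero (mul_ne_zero (nonZeroDivisors.ne_zero a.2)
      (Int.natCast_ne_zero.2 (Nat.mul_ne_zero (by norm_num) (Nat.card_pos (α := T)).ne')))⟩, ?_⟩
    rw [Submonoid.mk_smul, mul_smul, natCast_zsmul]
    exact ha
  have h6 : Nat.card T • (⟨_, h5⟩ : T) = 0 := card_nsmul_eq_zero'
  have h7 : Nat.card T • z (Additive.ofMul m) = 0 := congrArg Subtype.val h6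
  have h8 := hz (Additive.ofMul m)
  rw [mul_smul, h7, smul_zero, add_zero] at h8
  exact Additive.ofMul.injective h8

end Groth.Agent.MultNormal
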